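import Mathlib.AlgebraicGeometry.IdealSheaf.Basic
import Mathlib.AlgebraicGeometry.Noetherian
import Mathlib.RingTheory.Nakayama

/-!
# Ideal sheaves with `I ^ k ≤ I ^ (k + 1)` on locally Noetherian schemes
-/

set_option autoImplicit false
universe u

open AlgebraicGeometry

namespace Groth.Agent.LVCorrLib

variable {X : Scheme.{u}} [IsLocallyNoetherian X] (I : X.IdealSheafData) (k : ℕ)

theorem exists_annihilator (h : I ^ k ≤ I ^ (k + 1)) (U : X.affineOpens) :
    ∃ r : Γ(X, U.1), r - 1 ∈ I.ideal U ∧ ∀ z ∈ I.ideal U ^ k, r * z = 0 := by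
  haveI := IsLocallyNoetherian.component_noetherian (X := X) U
  obtain ⟨r, hr, hr'⟩ := Submodule.exists_sub_one_mem_and_smul_eq_zero_of_fg_of_le_smul
    (I.ideal U) (I.ideal U ^ k) (IsNoetherian.noetherian _)
    (by rw [smul_eq_mul, ← pow_succ']; exact h U)
  exact ⟨r, hr, fun z hz => hr' z hz⟩

theorem isOpen_support (h : I ^ k ≤ I ^ (k + 1)) : IsOpen (I.support : Set X) := by
  rw [isOpen_iff_forall_mem_open]
  intro x hx
  obtain ⟨_, ⟨U, hU, rfl⟩, hxU, -⟩ :=
    X.isBasis_affineOpens.exists_subset_of_mem_open (Set.mem_univ x) isOpen_univ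
  obtain ⟨r, hr, hr'⟩ := exists_annihilator I k h ⟨U, hU⟩
  refine ⟨X.basicOpen r, ?_, (X.basicOpen r).isOpen, ?_⟩
  · intro y hy
    have hyU : y ∈ U := X.basicOpen_le r hy
    rw [SetLike.mem_coe, I.mem_support_iff_of_mem (U := ⟨U, hU⟩) hyU, Scheme.mem_zeroLocus_iff]
    intro f hf hyf
    have h0 : X.basicOpen (r * f ^ k) = ⊥ := by rw [hr' _ (Ideal.pow_mem_pow hf k)]; exact X.basicOpen_zero U
    have : y ∈ X.basicOpen (r * f ^ k) := by
      rw [X.basicOpen_mul]
      refine ⟨hy, ?_⟩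
      rw [SetLike.mem_coe, X.mem_basicOpen _ _ hyU, map_pow]
      exact ((X.mem_basicOpen _ _ hyU).1 hyf).pow k
    rw [h0] at this
    exact this
  · rw [SetLike.mem_coe, X.mem_basicOpen _ _ hxU]
    have hxr : x ∉ X.basicOpen (r - 1) := by
      rw [SetLike.mem_coe, I.mem_support_iff_of_mem (U := ⟨U, hU⟩) hxU, Scheme.mem_zeroLocus_iff] at hx
      exact hx _ hr
    rw [X.mem_basicOpen _ _ hxU, map_sub, map_one] at hxr
    by_contra hn
    exact (IsLocalRing.mem_maximalIdeal _).1 (Ideal.sub_mem _ ((IsLocalRing.mem_maximalIdeal _).2 hn)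
      ((IsLocalRing.mem_maximalIdeal _).2 hxr)) (by simp)

theorem pow_eq_bot_of_support (h : I ^ k ≤ I ^ (k + 1)) (hs : (I.support : Set X) = Set.univ) : I ^ k = ⊥ := by
  refine le_bot_iff.1 fun U => ?_
  obtain ⟨r, hr, hr'⟩ := exists_annihilator I k h U
  have hnil : IsNilpotent (r - 1) := by
    rw [Scheme.isNilpotent_iff_basicOpen_eq_bot_of_isCompact U.2.isCompact]
    refine le_bot_iff.1 fun y hy => ?_
    have hyU : y ∈ U.1 := X.basicOpen_le _ hy
    have : y ∈ I.support := hs.ge (Set.mem_univ y)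
    rw [I.mem_support_iff_of_mem hyU, Scheme.mem_zeroLocus_iff] at this
    exact (this _ hr hy).elim
  have hu : IsUnit r := by simpa using hnil.isUnit_one_add
  intro z hz
  rw [show (I ^ k).ideal U = I.ideal U ^ k from rfl] at hz
  show z ∈ (⊥ : X.IdealSheafData).ideal U
  rw [show z = 0 from hu.mul_right_eq_zero.1 (hr' z hz)]
  exact Ideal.zero_mem _

end Groth.Agent.LVCorrLib
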